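import Groth.Agent.Lib.GeomRed18.Perfect
import Groth.Agent.Lib.GeomRed21.Algebra
import Groth.Agent.Lib.RedSep.Basic
import Mathlib.AlgebraicGeometry.Pullbacks
import Mathlib.CategoryTheory.Monoidal.Cartesian.Over

/-! # Products of reduced schemes over a perfect field are reduced -/

set_option autoImplicit false
set_option linter.style.haveILetI false
set_option backward.isDefEq.respectTransparency.types false
universe u

open CategoryTheory CategoryTheory.Limits AlgebraicGeometry MonoidalCategory
open scoped TensorProduct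

namespace Groth.Agent.PerfProd19

variable {k : Type u} [Field k] [PerfectField k]

theorem isReduced_tensor (A B : Type u) [CommRing A] [CommRing B] [Algebra k A] [Algebra k B]
    [_root_.IsReduced A] [_root_.IsReduced B] : _root_.IsReduced (A ⊗[k] B) := by
  refine GeomRed21.isReduced_tensor_of_jointly_injective
    (fun P : PrimeSpectrum B => IsScalarTower.toAlgHom k B P.asIdeal.ResidueField) (fun b hb => ?_)
    fun P => GeomRed.isReduced_tensor_of_perfectField A _
  refine (isNilpotent_iff_eq_zero.mp ?_ : b = 0)
  rw [nilpotent_iff_mem_prime]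
  intro J hJ
  exact Ideal.algebraMap_residueField_eq_zero.mp (hb ⟨J, hJ⟩)

theorem isReduced_pullback_spec (A B : CommRingCat.{u}) (a : CommRingCat.of k ⟶ A)
    (b : CommRingCat.of k ⟶ B) [_root_.IsReduced A] [_root_.IsReduced B] :
    IsReduced (pullback (Spec.map a) (Spec.map b)) := by
  letI := a.hom.toAlgebra
  letI := b.hom.toAlgebra
  haveI := isReduced_tensor (k := k) A B
  haveI : IsReduced (Spec (CommRingCat.of (A ⊗[k] B))) := inferInstance
  exact isReduced_of_isOpenImmersion (pullbackSpecIso k A B).hom

theorem isReduced_pullback {X Y : Scheme.{u}} (f : X ⟶ Spec (CommRingCat.of k))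
    (g : Y ⟶ Spec (CommRingCat.of k)) [IsReduced X] [IsReduced Y] :
    IsReduced (pullback f g) := by
  suffices H : ∀ (R S : CommRingCat.{u}) (p : Spec R ⟶ X) (q : Spec S ⟶ Y) [IsOpenImmersion p]
      [IsOpenImmersion q], IsReduced (pullback (p ≫ f) (q ≫ g)) from
    @IsReduced.of_openCover _ (Scheme.Pullback.openCoverOfLeftRight X.affineCover Y.affineCover f g)
      (fun ij => @H _ _ (X.affineCover.f ij.1) (Y.affineCover.f ij.2) (X.affineCover.map_prop _) (Y.affineCover.map_prop _))
  intro R S p q _ _
  obtain ⟨a, ha⟩ := Spec.map_surjective (p ≫ f)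
  obtain ⟨b, hb⟩ := Spec.map_surjective (q ≫ g)
  rw [← ha, ← hb]
  haveI := (affine_isReduced_iff _).1 (isReduced_of_isOpenImmersion p)
  haveI := (affine_isReduced_iff _).1 (isReduced_of_isOpenImmersion q)
  exact isReduced_pullback_spec _ _ a b

theorem isReduced_tensorObj (X Y : Over (Spec (CommRingCat.of k))) [IsReduced X.left] [IsReduced Y.left] :
    IsReduced (X ⊗ Y).left := isReduced_pullback X.hom Y.hom

theorem exists_lift_of_surjective {S : Scheme.{u}} {F G W : Over S} (j : F ⟶ G) [IsClosedImmersion j.left]
    [Surjective j.left] [IsReduced W.left] (h : W ⟶ G) : ∃ l : W ⟶ F, l ≫ j = h := by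
  obtain ⟨l, hl⟩ := RedSepLib.exists_lift_of_range_subset h.left j.left
    (fun x _ => j.left.surjective x)
  exact ⟨Over.homMk l (by rw [← Over.w j, reassoc_of% hl, Over.w h]), Over.OverMorphism.ext hl⟩

end Groth.Agent.PerfProd19
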